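import Cfsg.Agent.H926.HT.AltWt

/-!
# Lifts of disjoint `l`-cycles to a central extension of `Alt α` by a group of order at most two (`l` an odd prime)

* `yy D e` : the lift of order `l` of the `l`-cycle of `e : ZMod l ↪ α`;
* `move` : disjoint `l`-cycles may be permuted and replaced by powers independently.
-/

set_option autoImplicit false
set_option linter.unusedSectionVars false

namespace Cfsg.Agent.H926.HP

open Equiv Equiv.Perm Cfsg.Agent.H614.AMod
open Cfsg.Agent.H825.Spin (Dc)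
open Cfsg.Agent.H926.HT (exists_even)

variable {l : ℕ} [hl : Fact l.Prime]

section perm

variable {α : Type*} [Fintype α] [DecidableEq α]

/-- the rotation -/
def rot (l : ℕ) : Perm (ZMod l) := Equiv.addRight 1

theorem rot_apply (i : ZMod l) : rot l i = i + 1 := rfl

theorem rot_pow (m : ℕ) (i : ZMod l) : (rot l ^ m) i = i + m := by
  induction m with
  | zero => simp
  | succ m ih => rw [pow_succ', Perm.mul_apply, ih, rot_apply]; push_cast; ring

/-- the `l`-cycle of an embedding -/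
noncomputable def TT (e : ZMod l ↪ α) : Perm α := (rot l).viaEmbedding e

theorem TT_apply (e : ZMod l ↪ α) (i : ZMod l) : TT e (e i) = e (i + 1) := by
  rw [TT, viaEmbedding_apply]; rfl

theorem TT_of_notMem (e : ZMod l ↪ α) {x : α} (hx : ∀ i, e i ≠ x) : TT e x = x := by
  rw [TT, viaEmbedding_apply_of_notMem]
  rintro ⟨i, hi⟩
  exact hx i hi

theorem TT_pow_apply (e : ZMod l ↪ α) (m : ℕ) (i : ZMod l) : (TT e ^ m) (e i) = e (i + m) := by
  induction m with
  | zero => simp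
  | succ m ih => rw [pow_succ', Perm.mul_apply, ih, TT_apply]; push_cast; rw [add_assoc]

theorem TT_pow_of_notMem (e : ZMod l ↪ α) (m : ℕ) {x : α} (hx : ∀ i, e i ≠ x) : (TT e ^ m) x = x := by
  induction m with
  | zero => simp
  | succ m ih => rw [pow_succ', Perm.mul_apply, ih, TT_of_notMem e hx]

theorem TT_pow (e : ZMod l ↪ α) : TT e ^ l = 1 := by
  apply Equiv.ext
  intro x
  by_cases hx : ∃ i, e i = x
  · obtain ⟨i, rfl⟩ := hx
    rw [TT_pow_apply, ZMod.natCast_self, add_zero]; rfl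
  · push Not at hx
    rw [TT_pow_of_notMem e l hx]; rfl

theorem units_eq_one (hl2 : l ≠ 2) (s : ℤˣ) (h1 : s ^ l = 1) : s = 1 := by
  obtain ⟨j, hj⟩ := hl.out.odd_of_ne_two hl2
  rw [hj, pow_succ, pow_mul, Int.units_sq, one_pow, one_mul] at h1
  exact h1

theorem TT_sign (hl2 : l ≠ 2) (e : ZMod l ↪ α) : Perm.sign (TT e) = 1 :=
  units_eq_one hl2 _ (by rw [← map_pow, TT_pow, map_one])

theorem TT_conj (g : Perm α) (e e' : ZMod l ↪ α) (h : ∀ i, g (e i) = e' i) : g * TT e * g⁻¹ = TT e' := by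
  rw [mul_inv_eq_iff_eq_mul]
  apply Equiv.ext
  intro x
  rw [Perm.mul_apply, Perm.mul_apply]
  by_cases hx : ∃ i, e i = x
  · obtain ⟨i, rfl⟩ := hx
    rw [TT_apply, h, h, TT_apply]
  · push Not at hx
    rw [TT_of_notMem e hx, TT_of_notMem e']
    intro i hi
    rw [← h i] at hi
    exact hx i (g.injective hi)

/-- reparametrisation -/
def emul (u : (ZMod l)ˣ) (e : ZMod l ↪ α) : ZMod l ↪ α where
  toFun i := e (u * i)
  inj' := fun i j h => by
    have h1 := e.injective h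
    exact (Units.mul_right_inj u).1 h1

@[simp] theorem emul_apply (u : (ZMod l)ˣ) (e : ZMod l ↪ α) (i : ZMod l) : emul u e i = e (u * i) := rfl

theorem TT_emul (u : (ZMod l)ˣ) (e : ZMod l ↪ α) : TT (emul u e) = TT e ^ (u : ZMod l).val := by
  apply Equiv.ext
  intro x
  by_cases hx : ∃ i, e i = x
  · obtain ⟨i, rfl⟩ := hx
    rw [TT_pow_apply, ZMod.natCast_val, ZMod.cast_id]
    have h1 : e i = emul u e ((u⁻¹ : (ZMod l)ˣ) * i) := by
      rw [emul_apply, ← mul_assoc, Units.mul_inv, one_mul]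
    conv_lhs => rw [h1]
    rw [TT_apply, emul_apply, mul_add, ← mul_assoc, Units.mul_inv, one_mul, mul_one]
  · push Not at hx
    rw [TT_pow_of_notMem e _ hx, TT_of_notMem (emul u e) fun i => hx _]

theorem TT_comm (e e' : ZMod l ↪ α) (h : ∀ i j, e i ≠ e' j) : TT e * TT e' = TT e' * TT e := by
  have h1 : TT e * TT e' * (TT e)⁻¹ = TT e' := TT_conj _ _ _ fun i => TT_of_notMem e fun j => h j i
  rw [← h1, inv_mul_cancel_right, h1]

end perm

section lift

variable {P : Type*} [Group P] {α : Type*} [Fintype α] [DecidableEq α] {π : P →* Perm α} {z : P}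

theorem z_pow (D : Dc π z) (hl2 : l ≠ 2) : z ^ l = z := by
  obtain ⟨j, hj⟩ := hl.out.odd_of_ne_two hl2
  rw [hj, pow_succ, pow_mul, pow_two, D.zz, one_pow, one_mul]

theorem zmul_pow (D : Dc π z) (hl2 : l ≠ 2) (x : P) : (z * x) ^ l = z * x ^ l := by
  have h1 : Commute z x := D.zc x
  rw [h1.mul_pow, z_pow D hl2]

theorem uniq (D : Dc π z) (hl2 : l ≠ 2) {x y : P} (hx : x ^ l = 1) (hy : y ^ l = 1) (h : π x = π y) : x = y := by
  rcases D.eq_or h with h1 | h1
  · exact h1.symm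
  · rw [h1, zmul_pow D hl2, hx, mul_one] at hy
    rw [h1, hy, one_mul]

theorem exists_lift (D : Dc π z) (hl2 : l ≠ 2) {c : Perm α} (hc : c ^ l = 1) (hs : Perm.sign c = 1) :
    ∃ x, π x = c ∧ x ^ l = 1 := by
  obtain ⟨x, hx⟩ := D.surj c hs
  rcases D.ker (x ^ l) (by rw [map_pow, hx, hc]) with h | h
  · exact ⟨x, hx, h⟩
  · exact ⟨z * x, by rw [map_mul, D.pz, one_mul, hx], by rw [zmul_pow D hl2, h, D.zz]⟩

theorem conj_eq (D : Dc π z) (hl2 : l ≠ 2) {x y : P} (g : P) (hx : x ^ l = 1) (hy : y ^ l = 1)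
    (h : π g * π x * (π g)⁻¹ = π y) : g * x * g⁻¹ = y := by
  apply uniq D hl2 _ hy
  · rw [map_mul, map_mul, map_inv, h]
  · rw [conj_pow, hx, mul_one, mul_inv_cancel]

/-- the lift of order `l` of an `l`-cycle -/
noncomputable def yy (D : Dc π z) (hl2 : l ≠ 2) (e : ZMod l ↪ α) : P :=
  (exists_lift D hl2 (TT_pow e) (TT_sign hl2 e)).choose

variable (D : Dc π z) (hl2 : l ≠ 2)

theorem yy_map (e : ZMod l ↪ α) : π (yy D hl2 e) = TT e :=
  (exists_lift D hl2 (TT_pow e) (TT_sign hl2 e)).choose_spec.1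

theorem yy_pow (e : ZMod l ↪ α) : yy D hl2 e ^ l = 1 :=
  (exists_lift D hl2 (TT_pow e) (TT_sign hl2 e)).choose_spec.2

theorem yy_conj (e e' : ZMod l ↪ α) (g : P) (h : ∀ i, π g (e i) = e' i) :
    g * yy D hl2 e * g⁻¹ = yy D hl2 e' :=
  conj_eq D hl2 g (yy_pow D hl2 e) (yy_pow D hl2 e') (by rw [yy_map, yy_map]; exact TT_conj _ e e' h)

theorem yy_conj_emul (e e' : ZMod l ↪ α) (u : (ZMod l)ˣ) (g : P) (h : ∀ i, π g (e i) = e' (u * i)) :
    g * yy D hl2 e * g⁻¹ = yy D hl2 e' ^ (u : ZMod l).val := by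
  refine conj_eq D hl2 g (yy_pow D hl2 e) (by rw [← pow_mul, mul_comm, pow_mul, yy_pow, one_pow]) ?_
  rw [map_pow, yy_map, yy_map, ← TT_emul]
  exact TT_conj _ e (emul u e') h

theorem yy_comm (e e' : ZMod l ↪ α) (h : ∀ i j, e i ≠ e' j) :
    yy D hl2 e * yy D hl2 e' = yy D hl2 e' * yy D hl2 e := by
  have h1 := conj_eq D hl2 (yy D hl2 e) (yy_pow D hl2 e') (yy_pow D hl2 e')
    (by rw [yy_map, yy_map, TT_comm e e' h, mul_inv_cancel_right])
  exact mul_inv_eq_iff_eq_mul.1 h1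

/-- the `i`-th block -/
def blk {k : ℕ} (p : Fin k × ZMod l ↪ α) (i : Fin k) : ZMod l ↪ α where
  toFun a := p (i, a)
  inj' := fun a b h => (Prod.ext_iff.1 (p.injective h)).2

@[simp] theorem blk_apply {k : ℕ} (p : Fin k × ZMod l ↪ α) (i : Fin k) (a : ZMod l) : blk p i a = p (i, a) := rfl

/-- the monomial permutations of the blocks -/
theorem move {k : ℕ} (hk : l * k + 2 ≤ Fintype.card α) (p : Fin k × ZMod l ↪ α) (σ : Perm (Fin k))
    (s : Fin k → (ZMod l)ˣ) :
    ∃ g : P, ∀ i, g * yy D hl2 (blk p i) * g⁻¹ = yy D hl2 (blk p (σ i)) ^ (s i : ZMod l).val := by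
  let f : Fin k × ZMod l ↪ α :=
    { toFun := fun x => p (σ x.1, s x.1 * x.2)
      inj' := by
        rintro ⟨i, a⟩ ⟨j, b⟩ h
        have h1 := p.injective h
        rw [Prod.mk.injEq] at h1
        obtain ⟨h2, h3⟩ := h1
        have h4 : i = j := σ.injective h2
        subst h4
        exact Prod.ext rfl ((Units.mul_right_inj (s i)).1 h3) }
  have : NeZero l := ⟨hl.out.ne_zero⟩
  obtain ⟨g0, hg0, hg⟩ := exists_even (by
    rw [Fintype.card_prod, Fintype.card_fin, ZMod.card, mul_comm k l]; omega) p f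
  obtain ⟨g, rfl⟩ := D.surj g0 hg0
  exact ⟨g, fun i => yy_conj_emul D hl2 _ _ (s i) g fun a => by rw [blk_apply, hg]; rfl⟩

theorem yy_blk_comm {k : ℕ} (p : Fin k × ZMod l ↪ α) (i j : Fin k) :
    yy D hl2 (blk p i) * yy D hl2 (blk p j) = yy D hl2 (blk p j) * yy D hl2 (blk p i) := by
  by_cases h : i = j
  · rw [h]
  · apply yy_comm
    intro _ _ hab
    exact h (Prod.ext_iff.1 (p.injective hab)).1

end lift

end Cfsg.Agent.H926.HP
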