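import Cfsg.Agent.H926.HP.Wt
import Cfsg.Agent.H926.HT.AltFix

/-!
# Modules of small dimension of alternating groups and their double covers, all characteristics

* `pair_of_small` : in small dimension disjoint `l`-cycles act independently;
* `three_of_five` : from 5-cycles to 3-cycles;
* `exists_stv` : a vector with a large stabiliser.
-/

set_option autoImplicit false
set_option linter.unusedSectionVars false

namespace Cfsg.Agent.H926.HP

open Equiv Equiv.Perm Cfsg.Agent.H614.AMod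
open Cfsg.Agent.H825.Spin (Dc)
open Cfsg.Agent.H926.HT (exists_even stv y3 y3_map y3_cube y3_pow y3_conj T3 T3_cube T3_sign)

variable {P : Type*} [Group P] {α : Type*} [Fintype α] [DecidableEq α] {π : P →* Perm α} {z : P}
variable {K : Type*} [Field K] {V : Type*} [AddCommGroup V] [Module K V] [FiniteDimensional K V]

section general

variable {l : ℕ} [hl : Fact l.Prime]

/-- any two pairs of disjoint `l`-cycles are conjugate -/
theorem exists_pair (D : Dc π z) (hl2 : l ≠ 2) (h8 : 2 * l + 2 ≤ Fintype.card α) (e0 e1 e0' e1' : ZMod l ↪ α)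
    (h1 : ∀ i j, e0 i ≠ e1 j) (h' : ∀ i j, e0' i ≠ e1' j) :
    ∃ g : P, g * yy D hl2 e0 * g⁻¹ = yy D hl2 e0' ∧ g * yy D hl2 e1 * g⁻¹ = yy D hl2 e1' := by
  have : NeZero l := ⟨hl.out.ne_zero⟩
  let f : ZMod l ⊕ ZMod l ↪ α := ⟨Sum.elim e0 e1, e0.injective.sumElim e1.injective h1⟩
  let f' : ZMod l ⊕ ZMod l ↪ α := ⟨Sum.elim e0' e1', e0'.injective.sumElim e1'.injective h'⟩
  obtain ⟨g0, hg0, hg⟩ := exists_even (by rw [Fintype.card_sum, ZMod.card]; omega) f f'
  obtain ⟨g, rfl⟩ := D.surj g0 hg0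
  exact ⟨g, yy_conj D hl2 e0 e0' g fun i => hg (Sum.inl i), yy_conj D hl2 e1 e1' g fun i => hg (Sum.inr i)⟩

theorem exists_blocks {k : ℕ} (hk : l * k + 2 ≤ Fintype.card α) : Nonempty (Fin k × ZMod l ↪ α) := by
  have : NeZero l := ⟨hl.out.ne_zero⟩
  exact Function.Embedding.nonempty_of_card_le (by
    rw [Fintype.card_prod, Fintype.card_fin, ZMod.card, mul_comm k l]; omega)

theorem ne_zero_closure (hK : (l : K) ≠ 0) : (l : AlgebraicClosure K) ≠ 0 := by
  have h := (algebraMap K (AlgebraicClosure K)).injective.ne hK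
  rwa [map_natCast, map_zero] at h

/-- **Disjoint `l`-cycles act independently in small dimension.** -/
theorem pair_of_small (ρ : Representation K P V) (D : Dc π z) (hl2 : l ≠ 2) (hK : (l : K) ≠ 0) {k : ℕ} (hk2 : 2 ≤ k)
    (hk : l * k + 2 ≤ Fintype.card α)
    (hn : ∀ j, 2 ≤ j → j ≤ k → Module.finrank K V < Nat.choose k j * (l - 1) ^ j) (e e' : ZMod l ↪ α)
    (he : ∀ i j, e i ≠ e' j) : yy D hl2 e' ∈ pst ρ (U ρ (yy D hl2 e)) := by
  obtain ⟨p⟩ := exists_blocks (α := α) hk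
  have h01 : (⟨0, by omega⟩ : Fin k) ≠ ⟨1, by omega⟩ := by simp
  have h1 := pst_of_bc ρ (disj_of_small (bc ρ) D hl2 (ne_zero_closure hK) hk (by rw [finrank_bc]; exact hn) p h01)
  obtain ⟨g, hg0, hg1⟩ := exists_pair D hl2 (by
    have : l * 2 ≤ l * k := Nat.mul_le_mul_left _ hk2
    omega) (blk p ⟨0, by omega⟩) (blk p ⟨1, by omega⟩) e e' (fun i j hij => by
    have := (Prod.ext_iff.1 (p.injective hij)).1
    exact h01 this) he
  have h2 := pst_conj ρ (h := g) h1
  rwa [hg0, hg1] at h2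

/-- a lower bound for the dimension -/
theorem finrank_ge (ρ : Representation K P V) (D : Dc π z) (hl2 : l ≠ 2) (hK : (l : K) ≠ 0) {k : ℕ} (hk1 : 1 ≤ k)
    (hk : l * k + 2 ≤ Fintype.card α) (hne : ∀ e : ZMod l ↪ α, ρ (yy D hl2 e) ≠ 1) :
    ∃ j, 1 ≤ j ∧ j ≤ k ∧ Nat.choose k j * (l - 1) ^ j ≤ Module.finrank K V := by
  obtain ⟨p⟩ := exists_blocks (α := α) hk
  have h1 := le_finrank (bc ρ) D hl2 (ne_zero_closure hK) hk p (i := ⟨0, by omega⟩)
    (fun h => hne (blk p ⟨0, by omega⟩) ?_)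
  · rwa [finrank_bc] at h1
  · ext v
    have h2 : bc ρ (yy D hl2 (blk p ⟨0, by omega⟩)) (1 ⊗ₜ v) = 1 ⊗ₜ v := by rw [h]; rfl
    rw [bc_tmul] at h2
    exact one_tmul_inj h2

end general

theorem U_pow_le (ρ : Representation K P V) (g : P) (n : ℕ) : U ρ (g ^ n) ≤ U ρ g := by
  induction n with
  | zero =>
    rw [pow_zero]
    rintro v hv
    obtain ⟨u, rfl⟩ := (mem_U ρ).1 hv
    rw [rho_one, sub_self]
    exact Submodule.zero_mem _
  | succ n ih =>
    rw [pow_succ]
    exact (U_mul_le ρ _ _).trans (sup_le ih le_rfl)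

/-! ### From 3-cycles to 3-cycles -/

section three

/-- `ZMod 3` and `Fin 3` -/
def z3 : ZMod 3 ≃ Fin 3 := Equiv.refl (Fin 3)

/-- the embedding as a function on `ZMod 3` -/
def em3 (e : Fin 3 ↪ α) : ZMod 3 ↪ α := z3.toEmbedding.trans e

theorem em3_apply (e : Fin 3 ↪ α) (i : ZMod 3) : em3 e i = e (z3 i) := rfl

theorem TT_three (e : Fin 3 ↪ α) : TT (em3 e) = T3 e := by
  have h01 : e 0 ≠ e 1 := e.injective.ne (by decide)
  have h02 : e 0 ≠ e 2 := e.injective.ne (by decide)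
  have h12 : e 1 ≠ e 2 := e.injective.ne (by decide)
  have z0 : z3 0 = 0 := rfl
  have z1 : z3 1 = 1 := rfl
  have z2 : z3 2 = 2 := rfl
  have z01 : z3 (0 + 1) = 1 := rfl
  have z12 : z3 (1 + 1) = 2 := rfl
  have z20 : z3 (2 + 1) = 0 := rfl
  apply Equiv.ext
  intro x
  by_cases hx : ∃ i : ZMod 3, em3 e i = x
  · obtain ⟨i, rfl⟩ := hx
    rw [TT_apply, T3, Perm.mul_apply, em3_apply, em3_apply]
    have hi : i = 0 ∨ i = 1 ∨ i = 2 := by revert i; decide
    rcases hi with rfl | rfl | rfl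
    · rw [z0, z01, swap_apply_of_ne_of_ne h01 h02, swap_apply_left]
    · rw [z1, z12, swap_apply_left, swap_apply_of_ne_of_ne h02.symm h12.symm]
    · rw [z2, z20, swap_apply_right, swap_apply_right]
  · push Not at hx
    rw [TT_of_notMem _ hx, T3, Perm.mul_apply]
    have h0 : x ≠ e 0 := fun h => hx 0 h.symm
    have h1 : x ≠ e 1 := fun h => hx 1 h.symm
    have h2 : x ≠ e 2 := fun h => hx 2 h.symm
    rw [swap_apply_of_ne_of_ne h1 h2, swap_apply_of_ne_of_ne h0 h1]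

theorem yy_three [Fact (Nat.Prime 3)] (D : Dc π z) (e : Fin 3 ↪ α) :
    yy (l := 3) D (by norm_num) (em3 e) = y3 D e :=
  uniq (l := 3) D (by norm_num) (yy_pow _ _ _) (y3_pow D e) (by rw [yy_map, y3_map, TT_three])

end three

/-! ### From 5-cycles to 3-cycles -/

section five

/-- `ZMod 5` and `Fin 5` -/
def z5 : ZMod 5 ≃ Fin 5 := Equiv.refl (Fin 5)

/-- the first 5-cycle -/
def ta : Perm (Fin 5) := ⟨![0, 4, 3, 2, 1], ![0, 4, 3, 2, 1], by decide, by decide⟩

/-- the second 5-cycle -/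
def tb : Perm (Fin 5) := ⟨![0, 2, 1, 3, 4], ![0, 2, 1, 3, 4], by decide, by decide⟩

theorem prod_five : ∀ i : Fin 5, (swap (0 : Fin 5) 1 * swap 1 2 : Perm (Fin 5)) i =
    ta (z5 (z5.symm (ta.symm (tb (z5 (z5.symm (tb.symm i) + 1)))) + 1)) := by decide

variable [Fact (Nat.Prime 5)]

/-- the 5-cycles of five points -/
def em (t : Perm (Fin 5)) (q : Fin 5 ↪ α) : ZMod 5 ↪ α := (z5.trans t).toEmbedding.trans q

theorem em_apply (t : Perm (Fin 5)) (q : Fin 5 ↪ α) (i : ZMod 5) : em t q i = q (t (z5 i)) := rfl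

theorem TT_em (t : Perm (Fin 5)) (q : Fin 5 ↪ α) (i : Fin 5) :
    TT (em t q) (q i) = q (t (z5 (z5.symm (t.symm i) + 1))) := by
  have h1 : q i = em t q (z5.symm (t.symm i)) := by
    rw [em_apply, Equiv.apply_symm_apply, Equiv.apply_symm_apply]
  rw [h1, TT_apply]
  rfl

/-- the first three of five points -/
def fst3 (q : Fin 5 ↪ α) : Fin 3 ↪ α := (Fin.castLEEmb (by norm_num : 3 ≤ 5)).trans q

theorem T3_five (q : Fin 5 ↪ α) : T3 (fst3 q) = TT (em ta q) * TT (em tb q) := by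
  apply Equiv.ext
  intro x
  by_cases hx : ∃ i : Fin 5, q i = x
  · obtain ⟨i, rfl⟩ := hx
    rw [Perm.mul_apply, TT_em, TT_em, ← prod_five, T3]
    change (swap (q 0) (q 1) * swap (q 1) (q 2)) (q i) = _
    rw [Perm.mul_apply, Perm.mul_apply, q.injective.swap_apply, q.injective.swap_apply]
  · push Not at hx
    rw [Perm.mul_apply, TT_of_notMem (em tb q) (fun i => hx _), TT_of_notMem (em ta q) (fun i => hx _), T3,
      Perm.mul_apply]
    have h0 : x ≠ fst3 q 0 := fun h => hx 0 h.symm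
    have h1 : x ≠ fst3 q 1 := fun h => hx 1 h.symm
    have h2 : x ≠ fst3 q 2 := fun h => hx 2 h.symm
    rw [swap_apply_of_ne_of_ne h1 h2, swap_apply_of_ne_of_ne h0 h1]

theorem y3_five (D : Dc π z) (q : Fin 5 ↪ α) :
    y3 D (fst3 q) = (yy (l := 5) D (by norm_num) (em ta q) * yy (l := 5) D (by norm_num) (em tb q)) ^ 4 := by
  have h1 : π (y3 D (fst3 q)) = π (yy (l := 5) D (by norm_num) (em ta q) * yy (l := 5) D (by norm_num) (em tb q)) := by
    rw [y3_map, map_mul, yy_map, yy_map, T3_five]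
  have h3 : y3 D (fst3 q) ^ 4 = y3 D (fst3 q) := by rw [pow_succ, y3_pow, one_mul]
  rcases D.eq_or h1 with h2 | h2
  · rw [h2, h3]
  · rw [h2, (show Commute z (y3 D (fst3 q)) from D.zc _).mul_pow, h3]
    have h4 : z ^ 4 = 1 := by
      rw [show 4 = 2 * 2 from rfl, pow_mul, pow_two, pow_two, D.zz, one_mul]
    rw [h4, one_mul]

theorem U_three_le (ρ : Representation K P V) (D : Dc π z) (q : Fin 5 ↪ α) :
    U ρ (y3 D (fst3 q)) ≤ U ρ (yy (l := 5) D (by norm_num) (em ta q)) ⊔ U ρ (yy (l := 5) D (by norm_num) (em tb q)) := by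
  rw [y3_five]
  exact (U_pow_le ρ _ 4).trans (U_mul_le ρ _ _)

/-- **from 5-cycles to 3-cycles** -/
theorem three_of_five (ρ : Representation K P V) (D : Dc π z) (h10 : 10 ≤ Fintype.card α)
    (H : ∀ e e' : ZMod 5 ↪ α, (∀ i j, e i ≠ e' j) →
      yy (l := 5) D (by norm_num) e' ∈ pst ρ (U ρ (yy (l := 5) D (by norm_num) e))) :
    ∃ e0 : Fin 3 ↪ α, ∀ e' : Fin 3 ↪ α, (∀ i j, e0 i ≠ e' j) → y3 D e' ∈ pst ρ (U ρ (y3 D e0)) := by
  obtain ⟨Q⟩ : Nonempty (Fin 5 ⊕ Fin 5 ↪ α) := Function.Embedding.nonempty_of_card_le (by simp; omega)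
  let q : Fin 5 ↪ α := Function.Embedding.inl.trans Q
  let q' : Fin 5 ↪ α := Function.Embedding.inr.trans Q
  have hqq : ∀ i j, q i ≠ q' j := by
    intro i j h
    have := Q.injective h
    cases this
  have h1 : y3 D (fst3 q') ∈ pst ρ (U ρ (y3 D (fst3 q))) := by
    refine pst_anti ρ (U_three_le ρ D q) ?_
    rw [y3_five]
    refine Subgroup.pow_mem _ (Subgroup.mul_mem _ ?_ ?_) 4
    · exact mem_pst_sup ρ (H _ _ fun i j => hqq _ _) (H _ _ fun i j => hqq _ _)
    · exact mem_pst_sup ρ (H _ _ fun i j => hqq _ _) (H _ _ fun i j => hqq _ _)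
  refine ⟨fst3 q, fun e' he' => ?_⟩
  obtain ⟨g, hg0, hg1⟩ := Cfsg.Agent.H926.HT.exists_pair D (by omega) (fst3 q) (fst3 q') e' (fun i j => hqq _ _) he'
  have h2 := pst_conj ρ (h := g) h1
  rwa [hg0, hg1] at h2

end five

/-- **A vector with a large stabiliser** -/
theorem exists_stv [Finite P] (ρ : Representation K P V) (D : Dc π z) (h8 : 8 ≤ Fintype.card α)
    (H : ∃ e0 : Fin 3 ↪ α, ∀ e' : Fin 3 ↪ α, (∀ i j, e0 i ≠ e' j) → y3 D e' ∈ pst ρ (U ρ (y3 D e0)))
    (hne : ∀ e : Fin 3 ↪ α, ρ (y3 D e) ≠ 1) :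
    ∃ v : V, v ≠ 0 ∧ (Fintype.card α - 3).factorial ∣ 2 * Nat.card (stv ρ v) := by
  classical
  obtain ⟨e0, he0⟩ := H
  obtain ⟨u, hu⟩ : ∃ u, ρ (y3 D e0) u ≠ u := by
    by_contra hcon
    push Not at hcon
    exact hne e0 (LinearMap.ext hcon)
  set v := ρ (y3 D e0) u - u with hv
  have hvU : v ∈ U ρ (y3 D e0) := sub_mem_U ρ _ u
  refine ⟨v, sub_ne_zero.2 hu, ?_⟩
  have hst : ∀ e' : Fin 3 ↪ α, (∀ i j, e0 i ≠ e' j) → y3 D e' ∈ stv ρ v := fun e' he' => he0 e' he' v hvU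
  -- the image of the stabiliser contains all even permutations fixing the three points
  set S : Set α := {x | x ∉ Set.range e0} with hS
  have hcard : Fintype.card {x // x ∉ Set.range e0} = Fintype.card α - 3 := by
    rw [Fintype.card_subtype_compl, ← Set.toFinset_card, Set.toFinset_range, Finset.card_image_of_injective _ e0.injective]
    simp
  obtain ⟨x, hx, y, hy, hxy⟩ : ∃ x ∈ S, ∃ y ∈ S, x ≠ y := by
    have h1 : 1 < Fintype.card {x // x ∉ Set.range e0} := by rw [hcard]; omega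
    obtain ⟨x, y, hxy⟩ := Fintype.exists_pair_of_one_lt_card h1
    exact ⟨x, x.2, y, y.2, fun h => hxy (Subtype.ext h)⟩
  have hm' := mem_of_cyc (α := α) (((stv ρ v).map π).comap (alternatingGroup α).subtype) S hx hy hxy (fun e h0 h1 h2 => by
    refine ⟨y3 D e, hst e ?_, ?_⟩
    · intro i j hij
      have h4 : e j ∈ S := by
        have : j = 0 ∨ j = 1 ∨ j = 2 := by fin_cases j <;> simp
        rcases this with rfl | rfl | rfl
        · rw [h0]; exact hx
        · rw [h1]; exact hy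
        · exact h2
      exact h4 ⟨i, hij⟩
    · rw [y3_map]
      exact (coe_c3 e).symm)
  have key : ∀ σ : alternatingGroup {x // x ∉ Set.range e0}, (Perm.ofSubtype (σ : Perm {x // x ∉ Set.range e0}) : Perm α) ∈
      (stv ρ v).map π := by
    intro σ
    have h1 : (Perm.ofSubtype (σ : Perm {x // x ∉ Set.range e0}) : Perm α) ∈ alternatingGroup α := by
      rw [mem_alternatingGroup, Perm.sign_ofSubtype]
      exact mem_alternatingGroup.1 σ.2
    exact hm' ⟨_, h1⟩ (fun w hw => Perm.ofSubtype_apply_of_not_mem _ hw)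
  let φ : alternatingGroup {x // x ∉ Set.range e0} →* (stv ρ v).map π :=
    ((Perm.ofSubtype (p := fun x => x ∉ Set.range e0)).comp
      (alternatingGroup {x // x ∉ Set.range e0}).subtype).codRestrict _ key
  have hφ : Function.Injective φ := fun σ τ h =>
    Subtype.ext (Perm.ofSubtype_injective (congrArg Subtype.val h))
  have h5 : Nat.card (alternatingGroup {x // x ∉ Set.range e0}) ∣ Nat.card ((stv ρ v).map π) :=
    Subgroup.card_dvd_of_injective φ hφ
  have h6 : Nat.card ((stv ρ v).map π) ∣ Nat.card (stv ρ v) :=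
    Subgroup.card_dvd_of_surjective (π.subgroupMap (stv ρ v)) (π.subgroupMap_surjective _)
  have h7 : 2 * Nat.card (alternatingGroup {x // x ∉ Set.range e0}) = (Fintype.card α - 3).factorial := by
    have : Nontrivial {x // x ∉ Set.range e0} := ⟨⟨x, hx⟩, ⟨y, hy⟩, fun h => hxy (congrArg Subtype.val h)⟩
    rw [Nat.card_eq_fintype_card, two_mul_card_alternatingGroup, Fintype.card_perm, hcard]
  rw [← h7]
  exact Nat.mul_dvd_mul_left 2 (h5.trans h6)

end Cfsg.Agent.H926.HP
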