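import Mathlib

/-!
# Arithmetic for the alternating groups of degree at least 32 (S3512)
-/

set_option autoImplicit false

namespace Cfsg.Agent.H926.HP.Num

theorem le_two_pow {k : ℕ} (hk : 6 ≤ k) : 5 * k + 11 ≤ 2 ^ k := by
  induction k, hk using Nat.le_induction with
  | base => norm_num
  | succ k hk ih => rw [pow_succ]; omega

theorem fac_five (N : ℕ) : (N + 5).factorial ≤ (N + 5) ^ 5 * N.factorial := by
  have h : (N + 5).factorial = (N + 5) * (N + 4) * (N + 3) * (N + 2) * (N + 1) * N.factorial := by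
    rw [Nat.factorial_succ, Nat.factorial_succ, Nat.factorial_succ, Nat.factorial_succ, Nat.factorial_succ]; ring
  rw [h]
  refine Nat.mul_le_mul_right _ ?_
  calc (N + 5) * (N + 4) * (N + 3) * (N + 2) * (N + 1)
      ≤ (N + 5) * (N + 5) * (N + 5) * (N + 5) * (N + 5) := by gcongr <;> omega
    _ = (N + 5) ^ 5 := by ring

theorem fac_top {k : ℕ} (hk : 6 ≤ k) : (5 * k + 6).factorial ^ 2 ≤ 2 ^ (8 * (k * (k - 1)) + 60) := by
  induction k, hk using Nat.le_induction with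
  | base =>
    have : Nat.factorial 36 ≤ 2 ^ 150 := by decide +kernel
    calc (5 * 6 + 6).factorial ^ 2 ≤ (2 ^ 150) ^ 2 := Nat.pow_le_pow_left this 2
      _ = 2 ^ (8 * (6 * (6 - 1)) + 60) := by rw [← pow_mul]
  | succ k hk ih =>
    have h1 := fac_five (5 * k + 6)
    have h2 := le_two_pow hk
    have e1 : 5 * (k + 1) + 6 = 5 * k + 6 + 5 := by ring
    rw [e1]
    have h3 : (5 * k + 6 + 5) ^ 5 ≤ 2 ^ (5 * k) := by
      calc (5 * k + 6 + 5) ^ 5 ≤ (2 ^ k) ^ 5 := Nat.pow_le_pow_left h2 5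
        _ = 2 ^ (5 * k) := by rw [← pow_mul, mul_comm]
    calc (5 * k + 6 + 5).factorial ^ 2 ≤ ((5 * k + 6 + 5) ^ 5 * (5 * k + 6).factorial) ^ 2 := Nat.pow_le_pow_left h1 2
      _ = ((5 * k + 6 + 5) ^ 5) ^ 2 * (5 * k + 6).factorial ^ 2 := by rw [mul_pow]
      _ ≤ (2 ^ (5 * k)) ^ 2 * 2 ^ (8 * (k * (k - 1)) + 60) := Nat.mul_le_mul (Nat.pow_le_pow_left h3 2) ih
      _ = 2 ^ (10 * k + (8 * (k * (k - 1)) + 60)) := by rw [← pow_mul, ← pow_add]; congr 2; ring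
      _ ≤ 2 ^ (8 * ((k + 1) * (k + 1 - 1)) + 60) := by
        apply Nat.pow_le_pow_right (by norm_num)
        obtain ⟨j, rfl⟩ : ∃ j, k = j + 1 := ⟨k - 1, by omega⟩
        rw [Nat.add_sub_cancel, Nat.add_sub_cancel]
        nlinarith

theorem fac_sq {k n : ℕ} (hk : 6 ≤ k) (hn : n ≤ 5 * k + 6) : n.factorial ^ 2 ≤ 2 ^ (8 * (k * (k - 1)) + 60) :=
  (Nat.pow_le_pow_left (Nat.factorial_le hn) 2).trans (fac_top hk)

theorem le_X {k : ℕ} (hk : 6 ≤ k) : 240 ≤ 8 * (k * (k - 1)) := by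
  have : 6 * 5 ≤ k * (k - 1) := Nat.mul_le_mul hk (by omega)
  omega

/-- the dimension, `q = 2` -/
theorem dim_two {n k d m : ℕ} (hk : 6 ≤ k) (hn : n ≤ 5 * k + 6) (hm : m * 2 ^ 31 ≤ n.factorial)
    (hV : 2 ^ d ≤ 2 * m ^ 2) : d < 8 * (k * (k - 1)) := by
  have h1 : 2 ^ (d + 61) ≤ 2 ^ (8 * (k * (k - 1)) + 60) :=
    calc 2 ^ (d + 61) = 2 ^ d * 2 ^ 61 := pow_add _ _ _
      _ ≤ 2 * m ^ 2 * 2 ^ 61 := Nat.mul_le_mul_right _ hV
      _ = (m * 2 ^ 31) ^ 2 := by ring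
      _ ≤ n.factorial ^ 2 := Nat.pow_le_pow_left hm 2
      _ ≤ _ := fac_sq hk hn
  have := (Nat.pow_le_pow_iff_right (by norm_num : 1 < 2)).1 h1
  omega

theorem pow_lt {q d m A : ℕ} (hq : 2 ≤ q) (hd : 2 ≤ d) (hA : 0 < A) (hm : 2 * m ≤ (q - 1) * A) (hV : q ^ d ≤ 2 * m ^ 2) :
    2 * q ^ (d - 2) < A ^ 2 := by
  have h1 : q ^ 2 * (2 * q ^ (d - 2)) < q ^ 2 * A ^ 2 :=
    calc q ^ 2 * (2 * q ^ (d - 2)) = 2 * q ^ d := by
          obtain ⟨j, rfl⟩ : ∃ j, d = j + 2 := ⟨d - 2, by omega⟩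
          rw [Nat.add_sub_cancel, pow_add]; ring
      _ ≤ 2 * (2 * m ^ 2) := Nat.mul_le_mul_left _ hV
      _ = (2 * m) ^ 2 := by ring
      _ ≤ ((q - 1) * A) ^ 2 := Nat.pow_le_pow_left hm 2
      _ = (q - 1) ^ 2 * A ^ 2 := by rw [mul_pow]
      _ < q ^ 2 * A ^ 2 := Nat.mul_lt_mul_of_pos_right (Nat.pow_lt_pow_left (by omega) (by norm_num)) (by positivity)
  exact Nat.lt_of_mul_lt_mul_left h1

/-- the dimension, `q ≥ 3` -/
theorem dim_three {n k d q : ℕ} (hk : 6 ≤ k) (hn : n ≤ 5 * k + 6) (hq : 3 ≤ q)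
    (h : 2 * q ^ (d - 2) < n.factorial ^ 2) : d < 8 * (k * (k - 1)) := by
  by_contra hcon
  push Not at hcon
  have hX := le_X hk
  have h0 := fac_sq hk hn
  obtain ⟨x, hx⟩ : ∃ x, 8 * (k * (k - 1)) = 2 * x + 2 := ⟨4 * (k * (k - 1)) - 1, by omega⟩
  rw [hx] at hcon h0 hX
  have h1 : 2 ^ (3 * x + 1) < 2 ^ (2 * x + 2 + 60) :=
    calc 2 ^ (3 * x + 1) = 2 * 8 ^ x := by rw [pow_succ, pow_mul]; norm_num; ring
      _ ≤ 2 * 9 ^ x := Nat.mul_le_mul_left _ (Nat.pow_le_pow_left (by norm_num) x)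
      _ = 2 * 3 ^ (2 * x) := by rw [pow_mul]; norm_num
      _ ≤ 2 * 3 ^ (d - 2) := Nat.mul_le_mul_left _ (Nat.pow_le_pow_right (by norm_num) (by omega))
      _ ≤ 2 * q ^ (d - 2) := Nat.mul_le_mul_left _ (Nat.pow_le_pow_left hq _)
      _ < n.factorial ^ 2 := h
      _ ≤ _ := h0
  have := (Nat.pow_lt_pow_iff_right (by norm_num : 1 < 2)).1 h1
  omega

/-- the dimension, `q ≥ 5`, weights for 3-cycles -/
theorem dim_five {n k k' d q : ℕ} (hk : 6 ≤ k) (hn : n ≤ 5 * k + 6) (hkk : 5 * k ≤ 3 * k' + 2) (hq : 5 ≤ q) (hd : 2 ≤ d)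
    (h : 2 * q ^ (d - 2) < n.factorial ^ 2) : d < 2 * (k' * (k' - 1)) := by
  have h0 := fac_sq hk hn
  have h1 : 2 ^ (2 * (d - 2) + 1) < 2 ^ (8 * (k * (k - 1)) + 60) :=
    calc 2 ^ (2 * (d - 2) + 1) = 2 * 4 ^ (d - 2) := by rw [pow_succ, pow_mul]; norm_num; ring
      _ ≤ 2 * q ^ (d - 2) := Nat.mul_le_mul_left _ (Nat.pow_le_pow_left (by omega) _)
      _ < n.factorial ^ 2 := h
      _ ≤ _ := h0
  have h2 := (Nat.pow_lt_pow_iff_right (by norm_num : 1 < 2)).1 h1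
  obtain ⟨a, rfl⟩ : ∃ a, k = a + 6 := ⟨k - 6, by omega⟩
  obtain ⟨b, rfl⟩ : ∃ b, k' = b + 10 := ⟨k' - 10, by omega⟩
  rw [show a + 6 - 1 = a + 5 by omega] at h2
  rw [show b + 10 - 1 = b + 9 by omega]
  have h3 : 5 * a ≤ 3 * b + 2 := by omega
  have h4 : 2 * (4 * ((a + 6) * (a + 5)) + 32) ≤ 2 * (2 * ((b + 10) * (b + 9))) := by
    nlinarith [Nat.zero_le (a * b), Nat.mul_le_mul h3 h3, Nat.zero_le a, Nat.zero_le b]
  omega

/-! ### the final comparison -/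

theorem three_pow {k : ℕ} (hk : 6 ≤ k) : 8 * (5 * k + 6) ^ 6 < 3 ^ (4 * k - 2) := by
  obtain ⟨j, rfl⟩ : ∃ j, k = j + 6 := ⟨k - 6, by omega⟩
  clear hk
  induction j with
  | zero => norm_num
  | succ j ih =>
    have e1 : 4 * (j + 1 + 6) - 2 = (4 * (j + 6) - 2) + 4 := by omega
    rw [e1, pow_add]
    calc 8 * (5 * (j + 1 + 6) + 6) ^ 6 ≤ 8 * (2 * (5 * (j + 6) + 6)) ^ 6 :=
          Nat.mul_le_mul_left _ (Nat.pow_le_pow_left (by omega) 6)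
      _ = 8 * (5 * (j + 6) + 6) ^ 6 * 64 := by rw [mul_pow]; ring
      _ < 3 ^ (4 * (j + 6) - 2) * 64 := Nat.mul_lt_mul_of_pos_right ih (by norm_num)
      _ ≤ 3 ^ (4 * (j + 6) - 2) * 3 ^ 4 := Nat.mul_le_mul_left _ (by norm_num)

theorem five_pow {k : ℕ} (hk : 6 ≤ k) : 8 * (5 * k + 6) ^ 6 < 5 ^ (3 * k - 2) := by
  obtain ⟨j, rfl⟩ : ∃ j, k = j + 6 := ⟨k - 6, by omega⟩
  clear hk
  induction j with
  | zero => norm_num
  | succ j ih =>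
    have e1 : 3 * (j + 1 + 6) - 2 = (3 * (j + 6) - 2) + 3 := by omega
    rw [e1, pow_add]
    calc 8 * (5 * (j + 1 + 6) + 6) ^ 6 ≤ 8 * (2 * (5 * (j + 6) + 6)) ^ 6 :=
          Nat.mul_le_mul_left _ (Nat.pow_le_pow_left (by omega) 6)
      _ = 8 * (5 * (j + 6) + 6) ^ 6 * 64 := by rw [mul_pow]; ring
      _ < 5 ^ (3 * (j + 6) - 2) * 64 := Nat.mul_lt_mul_of_pos_right ih (by norm_num)
      _ ≤ 5 ^ (3 * (j + 6) - 2) * 5 ^ 3 := Nat.mul_le_mul_left _ (by norm_num)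

theorem two_pow {k : ℕ} (hk : 6 ≤ k) : 3 * (5 * k + 6) ^ 9 < 2 ^ (8 * k + 3) := by
  obtain ⟨j, rfl⟩ : ∃ j, k = j + 6 := ⟨k - 6, by omega⟩
  clear hk
  induction j with
  | zero => norm_num
  | succ j ih =>
    have e1 : 8 * (j + 1 + 6) + 3 = (8 * (j + 6) + 3) + 8 := by omega
    have h1 : 2 ^ 9 * (3 * (5 * (j + 1 + 6) + 6) ^ 9) < 2 ^ 9 * 2 ^ (8 * (j + 1 + 6) + 3) := by
      rw [e1, pow_add]
      calc 2 ^ 9 * (3 * (5 * (j + 1 + 6) + 6) ^ 9) = 3 * (2 * (5 * (j + 1 + 6) + 6)) ^ 9 := by rw [mul_pow]; ring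
        _ ≤ 3 * (3 * (5 * (j + 6) + 6)) ^ 9 := Nat.mul_le_mul_left _ (Nat.pow_le_pow_left (by omega) 9)
        _ = 3 * (5 * (j + 6) + 6) ^ 9 * 19683 := by rw [mul_pow]; ring
        _ < 2 ^ (8 * (j + 6) + 3) * 19683 := Nat.mul_lt_mul_of_pos_right ih (by norm_num)
        _ ≤ 2 ^ 9 * (2 ^ (8 * (j + 6) + 3) * 2 ^ 8) := by
          rw [mul_comm (2 ^ 9), mul_assoc]
          exact Nat.mul_le_mul_left _ (by norm_num)
    exact Nat.lt_of_mul_lt_mul_left h1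

theorem pow_six_succ {n : ℕ} (hn : 32 ≤ n) : (n + 1) ^ 6 ≤ 2 * n ^ 6 := by
  have h1 : 16 ^ 6 * (n + 1) ^ 6 ≤ 16 ^ 6 * (2 * n ^ 6) :=
    calc 16 ^ 6 * (n + 1) ^ 6 = (16 * (n + 1)) ^ 6 := by rw [mul_pow]
      _ ≤ (17 * n) ^ 6 := Nat.pow_le_pow_left (by omega) 6
      _ = 17 ^ 6 * n ^ 6 := by rw [mul_pow]
      _ ≤ (16 ^ 6 * 2) * n ^ 6 := Nat.mul_le_mul_right _ (by norm_num)
      _ = _ := by ring
  exact Nat.le_of_mul_le_mul_left h1 (by norm_num)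

theorem pow_six_le {n : ℕ} (hn : 32 ≤ n) : n ^ 6 ≤ (n - 3).factorial := by
  induction n, hn using Nat.le_induction with
  | base => decide +kernel
  | succ n hn ih =>
    have e1 : n + 1 - 3 = (n - 3) + 1 := by omega
    rw [e1, Nat.factorial_succ]
    calc (n + 1) ^ 6 ≤ 2 * n ^ 6 := pow_six_succ hn
      _ ≤ (n - 3 + 1) * (n - 3).factorial := Nat.mul_le_mul (by omega) ih

theorem fac_three {n : ℕ} (hn : 3 ≤ n) : n.factorial = n * (n - 1) * (n - 2) * (n - 3).factorial := by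
  obtain ⟨k, rfl⟩ : ∃ k, n = k + 3 := ⟨n - 3, by omega⟩
  have h : (k + 3).factorial = (k + 3) * (k + 2) * (k + 1) * k.factorial := by
    rw [Nat.factorial_succ, Nat.factorial_succ, Nat.factorial_succ]; ring
  rw [h]
  rfl

theorem m_dvd {n q m h : ℕ} (hn : 3 ≤ n) (hmh : m * h ∣ (q - 1) * n.factorial) (hh : (n - 3).factorial ∣ 2 * h) :
    m ∣ 2 * (q - 1) * (n * (n - 1) * (n - 2)) := by
  obtain ⟨c, hc⟩ := hh
  have h1 : (n - 3).factorial * (m * c) ∣ (n - 3).factorial * (2 * (q - 1) * (n * (n - 1) * (n - 2))) := by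
    have e1 : (n - 3).factorial * (m * c) = 2 * (m * h) := by
      calc (n - 3).factorial * (m * c) = m * ((n - 3).factorial * c) := by ring
        _ = 2 * (m * h) := by rw [← hc]; ring
    have e2 : (n - 3).factorial * (2 * (q - 1) * (n * (n - 1) * (n - 2))) = 2 * ((q - 1) * n.factorial) := by
      rw [fac_three hn]; ring
    rw [e1, e2]
    exact Nat.mul_dvd_mul_left 2 hmh
  exact (dvd_mul_right m c).trans (Nat.dvd_of_mul_dvd_mul_left (Nat.factorial_pos _) h1)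

theorem prod_le (n : ℕ) : n * (n - 1) * (n - 2) ≤ n ^ 3 := by
  calc n * (n - 1) * (n - 2) ≤ n * n * n := by gcongr <;> omega
    _ = n ^ 3 := by ring

/-- the end for `q ≥ 3` -/
theorem end_three {n q d m B : ℕ} (hq : 2 ≤ q) (hd : 2 ≤ d) (hn0 : 0 < n) (hm : m ∣ 2 * (q - 1) * (n * (n - 1) * (n - 2)))
    (hn3 : 3 ≤ n) (hV : q ^ d ≤ 2 * m ^ 2) (hB : 8 * n ^ 6 ≤ B) (h : B ≤ q ^ (d - 2)) : False := by
  have h1 : m ≤ 2 * (q - 1) * n ^ 3 := by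
    refine (Nat.le_of_dvd ?_ hm).trans (Nat.mul_le_mul_left _ (prod_le n))
    have h2 : 0 < n * (n - 1) * (n - 2) := Nat.mul_pos (Nat.mul_pos hn0 (by omega)) (by omega)
    have h3 : 0 < 2 * (q - 1) := by omega
    exact Nat.mul_pos h3 h2
  have h2 : q ^ 2 * q ^ (d - 2) < q ^ 2 * (8 * n ^ 6) :=
    calc q ^ 2 * q ^ (d - 2) = q ^ d := by rw [← pow_add]; congr 1; omega
      _ ≤ 2 * m ^ 2 := hV
      _ ≤ 2 * (2 * (q - 1) * n ^ 3) ^ 2 := Nat.mul_le_mul_left _ (Nat.pow_le_pow_left h1 2)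
      _ = (q - 1) ^ 2 * (8 * n ^ 6) := by ring
      _ < q ^ 2 * (8 * n ^ 6) :=
        Nat.mul_lt_mul_of_pos_right (Nat.pow_lt_pow_left (by omega) (by norm_num)) (by positivity)
  have h3 := Nat.lt_of_mul_lt_mul_left h2
  omega

/-- the end for `q = 2` -/
theorem end_two {n k d m h : ℕ} (hk : 6 ≤ k) (hn : n ≤ 5 * k + 6) (hn32 : 32 ≤ n) (hd : 4 * k ≤ d)
    (hm : m ∣ 2 * (2 - 1) * (n * (n - 1) * (n - 2))) (hodd : ¬ 2 ∣ m) (hh : (n - 3).factorial ∣ 2 * h) (h0 : 0 < h)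
    (hV : 2 ^ d ≤ 2 * m ^ 2)
    (hI : (2 ^ d) ^ 2 * h ≤ (2 ^ d + (m - 1) * (m - 2)) * (2 ^ d + (h - 1) * (m - 1))) : False := by
  have hm1 : 2 * m ∣ n * (n - 1) * (n - 2) := by
    have h1 : 2 ∣ n * (n - 1) * (n - 2) := by
      refine Dvd.dvd.mul_right ?_ _
      exact (Nat.even_mul_pred_self n).two_dvd
    obtain ⟨c, hc⟩ := h1
    rw [hc, show 2 * (2 - 1) * (2 * c) = 4 * c by ring] at hm
    have h2 : Nat.Coprime m 4 := by
      rw [show 4 = 2 ^ 2 from rfl]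
      apply Nat.Coprime.pow_right
      rw [Nat.coprime_comm]
      exact (Nat.Prime.coprime_iff_not_dvd Nat.prime_two).2 hodd
    rw [hc]
    exact Nat.mul_dvd_mul_left 2 (h2.dvd_of_dvd_mul_left hm)
  have hpos : 0 < n * (n - 1) * (n - 2) := Nat.mul_pos (Nat.mul_pos (by omega) (by omega)) (by omega)
  have hm2 : 2 * m ≤ n * (n - 1) * (n - 2) := Nat.le_of_dvd hpos hm1
  have hm3 : 2 * m + 2 ≤ n ^ 3 := by
    have h1 : n * (n - 1) * (n - 2) + 2 ≤ n ^ 3 := by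
      obtain ⟨j, rfl⟩ : ∃ j, n = j + 2 := ⟨n - 2, by omega⟩
      rw [show j + 2 - 1 = j + 1 by omega, Nat.add_sub_cancel]
      nlinarith
    omega
  obtain ⟨N, hN⟩ : ∃ N, N = 2 ^ d := ⟨_, rfl⟩
  rw [← hN] at hV hI
  have hNh : N ≤ h := by
    have h1 : 2 * N ≤ 2 * h :=
      calc 2 * N ≤ 2 * (2 * m ^ 2) := Nat.mul_le_mul_left _ hV
        _ = (2 * m) ^ 2 := by ring
        _ ≤ (n ^ 3) ^ 2 := Nat.pow_le_pow_left (by omega) 2
        _ = n ^ 6 := by ring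
        _ ≤ (n - 3).factorial := pow_six_le hn32
        _ ≤ 2 * h := Nat.le_of_dvd (by omega) hh
    omega
  have h1 : h * N ^ 2 ≤ h * (3 * (m + 1) ^ 3) :=
    calc h * N ^ 2 = N ^ 2 * h := mul_comm _ _
      _ ≤ (N + (m - 1) * (m - 2)) * (N + (h - 1) * (m - 1)) := hI
      _ ≤ (2 * m ^ 2 + m * m) * (h + h * m) := by
          gcongr <;> omega
      _ = h * (3 * (m ^ 2 * (m + 1))) := by ring
      _ ≤ h * (3 * ((m + 1) ^ 2 * (m + 1))) := by gcongr; omega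
      _ = h * (3 * (m + 1) ^ 3) := by ring
  have h2 := Nat.le_of_mul_le_mul_left h1 h0
  have h3 : 2 ^ (8 * k + 3) ≤ 3 * (5 * k + 6) ^ 9 :=
    calc 2 ^ (8 * k + 3) = 8 * (2 ^ (4 * k)) ^ 2 := by rw [← pow_mul, pow_add]; ring
      _ ≤ 8 * N ^ 2 := by
          rw [hN]
          exact Nat.mul_le_mul_left _ (Nat.pow_le_pow_left (Nat.pow_le_pow_right (by norm_num) hd) 2)
      _ ≤ 8 * (3 * (m + 1) ^ 3) := Nat.mul_le_mul_left _ h2
      _ = 3 * (2 * m + 2) ^ 3 := by ring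
      _ ≤ 3 * (n ^ 3) ^ 3 := Nat.mul_le_mul_left _ (Nat.pow_le_pow_left hm3 3)
      _ ≤ 3 * ((5 * k + 6) ^ 3) ^ 3 := by gcongr
      _ = 3 * (5 * k + 6) ^ 9 := by ring
  exact absurd h3 (not_le.2 (two_pow hk))

end Cfsg.Agent.H926.HP.Num
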