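import Cfsg.Agent.H926.HP.Cyc

/-!
# Weights of disjoint `l`-cycles

* `occ_of_card` : the weights that occur form a union of orbits of the monomial group;
* `disj_of_small` : in small dimension disjoint `l`-cycles act independently.
-/

set_option autoImplicit false
set_option linter.unusedSectionVars false

namespace Cfsg.Agent.H926.HP

open Equiv Equiv.Perm Cfsg.Agent.H614.AMod
open Cfsg.Agent.H825.Spin (Dc)

variable {l : ℕ} [hl : Fact l.Prime]

section num

/-- the functions with `j` non-zero values -/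
theorem card_supp (k j : ℕ) : Nat.choose k j * (l - 1) ^ j ≤
    Fintype.card {a : Fin k → ZMod l // (Finset.univ.filter fun i => a i ≠ 0).card = j} := by
  classical
  let B : Finset (Fin k) → Finset (Fin k → ZMod l) := fun J =>
    Fintype.piFinset fun i => if i ∈ J then ({0}ᶜ : Finset (ZMod l)) else {0}
  have hB : ∀ J a, a ∈ B J → ∀ i, a i ≠ 0 ↔ i ∈ J := by
    intro J a ha i
    have h1 := Fintype.mem_piFinset.1 ha i
    by_cases hi : i ∈ J
    · rw [if_pos hi, Finset.mem_compl, Finset.mem_singleton] at h1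
      exact ⟨fun _ => hi, fun _ => h1⟩
    · rw [if_neg hi, Finset.mem_singleton] at h1
      exact ⟨fun h => absurd h1 h, fun h => absurd h hi⟩
  have hcard : ∀ J, (B J).card = (l - 1) ^ J.card := by
    intro J
    rw [Fintype.card_piFinset]
    have : ∀ i, (if i ∈ J then ({0}ᶜ : Finset (ZMod l)) else {0}).card = if i ∈ J then l - 1 else 1 := by
      intro i
      by_cases hi : i ∈ J
      · rw [if_pos hi, if_pos hi, Finset.card_compl, ZMod.card, Finset.card_singleton]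
      · rw [if_neg hi, if_neg hi, Finset.card_singleton]
    rw [Finset.prod_congr rfl fun i _ => this i, Finset.prod_ite_mem, Finset.univ_inter, Finset.prod_const]
  rw [Fintype.card_subtype]
  have h1 : (Finset.powersetCard j (Finset.univ : Finset (Fin k))).biUnion B ⊆
      Finset.univ.filter fun a : Fin k → ZMod l => (Finset.univ.filter fun i => a i ≠ 0).card = j := by
    intro a ha
    obtain ⟨J, hJ, haJ⟩ := Finset.mem_biUnion.1 ha
    refine Finset.mem_filter.2 ⟨Finset.mem_univ _, ?_⟩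
    have h2 : (Finset.univ.filter fun i => a i ≠ 0) = J := by
      ext i
      rw [Finset.mem_filter, hB J a haJ i]
      simp
    rw [h2]
    exact (Finset.mem_powersetCard.1 hJ).2
  refine le_trans (le_of_eq ?_) (Finset.card_le_card h1)
  rw [Finset.card_biUnion, Finset.sum_congr rfl fun J hJ => by rw [hcard, (Finset.mem_powersetCard.1 hJ).2],
    Finset.sum_const, Finset.card_powersetCard, Finset.card_univ, Fintype.card_fin, smul_eq_mul]
  intro J _ J' _ hne
  rw [Function.onFun, Finset.disjoint_left]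
  intro a ha ha'
  apply hne
  ext i
  rw [← hB J a ha i, hB J' a ha' i]

theorem choose_two_succ (k : ℕ) : Nat.choose (k + 1) 2 = Nat.choose k 2 + k := by
  rw [Nat.choose_succ_succ' k 1, Nat.choose_one_right, add_comm]

theorem le_choose_two {k : ℕ} (hk : 3 ≤ k) : k ≤ Nat.choose k 2 := by
  induction k, hk using Nat.le_induction with
  | base => decide
  | succ k hk ih =>
    rw [choose_two_succ]
    omega

/-- the number of weights with at least two non-zero values -/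
theorem num_two {c k₀ : ℕ} (hc : 2 ≤ c) (hk₀ : 3 ≤ k₀)
    (base : ∀ j, 2 ≤ j → j ≤ k₀ → Nat.choose k₀ 2 ≤ Nat.choose k₀ j * c ^ (j - 2)) {k : ℕ} (hk : k₀ ≤ k) :
    ∀ j, 2 ≤ j → j ≤ k → Nat.choose k 2 ≤ Nat.choose k j * c ^ (j - 2) := by
  induction k, hk using Nat.le_induction with
  | base => exact base
  | succ k hk ih =>
    intro j h2 hj
    rw [choose_two_succ]
    rcases h2.eq_or_lt with rfl | h3
    · rw [Nat.sub_self, pow_zero, mul_one, choose_two_succ]
    have hkc := le_choose_two (hk₀.trans hk)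
    obtain ⟨i, rfl⟩ : ∃ i, j = i + 1 := ⟨j - 1, by omega⟩
    have h4 := ih i (by omega) (by omega)
    have e1 : i + 1 - 2 = (i - 2) + 1 := by omega
    rw [Nat.choose_succ_succ', e1]
    have h5 : Nat.choose k 2 + k ≤ Nat.choose k i * c ^ (i - 2 + 1) := by
      calc Nat.choose k 2 + k ≤ Nat.choose k 2 * 2 := by omega
        _ ≤ Nat.choose k i * c ^ (i - 2) * c := Nat.mul_le_mul h4 hc
        _ = _ := by rw [pow_succ]; ring
    rw [add_mul]
    omega

theorem num_four {k : ℕ} (hk : 3 ≤ k) {j : ℕ} (h1 : 2 ≤ j) (h2 : j ≤ k) :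
    16 * Nat.choose k 2 ≤ Nat.choose k j * 4 ^ j := by
  have h := num_two (c := 4) (k₀ := 3) (by norm_num) le_rfl (by
    intro j h1 h2
    interval_cases j <;> decide) hk j h1 h2
  obtain ⟨i, rfl⟩ : ∃ i, j = i + 2 := ⟨j - 2, by omega⟩
  rw [Nat.add_sub_cancel] at h
  calc 16 * Nat.choose k 2 ≤ 16 * (Nat.choose k (i + 2) * 4 ^ i) := Nat.mul_le_mul_left _ h
    _ = _ := by rw [pow_add]; ring

theorem num_bin {k : ℕ} (hk : 6 ≤ k) {j : ℕ} (h1 : 2 ≤ j) (h2 : j ≤ k) :
    4 * Nat.choose k 2 ≤ Nat.choose k j * 2 ^ j := by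
  have h := num_two (c := 2) (k₀ := 6) (by norm_num) (by norm_num) (by
    intro j h1 h2
    interval_cases j <;> decide) hk j h1 h2
  obtain ⟨i, rfl⟩ : ∃ i, j = i + 2 := ⟨j - 2, by omega⟩
  rw [Nat.add_sub_cancel] at h
  calc 4 * Nat.choose k 2 ≤ 4 * (Nat.choose k (i + 2) * 2 ^ i) := Nat.mul_le_mul_left _ h
    _ = _ := by rw [pow_add]; ring

end num

section wt

variable {A : Type*} [Field A]

/-- a non-trivial `l`-th root of unity -/
def IsRt (l : ℕ) (w : A) : Prop := w ^ l = 1 ∧ w ≠ 1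

/-- the powers -/
def wt (w : A) (a : ZMod l) : A := w ^ a.val

theorem wt_zero (w : A) : wt w (0 : ZMod l) = 1 := by simp [wt]

theorem pow_mod_l {w : A} (hw : w ^ l = 1) (m : ℕ) : w ^ (m % l) = w ^ m := by
  conv_rhs => rw [← Nat.div_add_mod m l, pow_add, pow_mul, hw, one_pow, one_mul]

theorem wt_pow {w : A} (h : IsRt l w) (a b : ZMod l) : wt w a ^ b.val = wt w (a * b) := by
  rw [wt, wt, ← pow_mul, ZMod.val_mul, pow_mod_l h.1]

theorem IsRt.orderOf {w : A} (h : IsRt l w) : orderOf w = l := orderOf_eq_prime h.1 h.2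

theorem wt_inj {w : A} (h : IsRt l w) : Function.Injective (wt (l := l) w) := by
  intro a b hab
  have : NeZero l := ⟨hl.out.ne_zero⟩
  apply ZMod.val_injective l
  have h1 : a.val < orderOf w := by rw [h.orderOf]; exact ZMod.val_lt a
  have h2 : b.val < orderOf w := by rw [h.orderOf]; exact ZMod.val_lt b
  exact pow_injOn_Iio_orderOf h1 h2 hab

theorem exists_wt {w : A} (h : IsRt l w) {c : A} (hc : c ^ l = 1) : ∃ a : ZMod l, c = wt w a := by
  have hprim : IsPrimitiveRoot w l := by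
    rw [← h.orderOf]; exact IsPrimitiveRoot.orderOf w
  have : NeZero l := ⟨hl.out.ne_zero⟩
  obtain ⟨i, hi, rfl⟩ := hprim.eq_pow_of_pow_eq_one hc
  refine ⟨(i : ZMod l), ?_⟩
  rw [wt, ZMod.val_natCast, Nat.mod_eq_of_lt hi]

theorem exists_rt [IsAlgClosed A] (hA : (l : A) ≠ 0) : ∃ w : A, IsRt l w := by
  have : NeZero (l : A) := ⟨hA⟩
  have : NeZero l := ⟨hl.out.ne_zero⟩
  obtain ⟨w, hw⟩ := HasEnoughRootsOfUnity.exists_primitiveRoot A l
  exact ⟨w, hw.pow_eq_one, hw.ne_one hl.out.one_lt⟩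

variable {P : Type*} [Group P] {α : Type*} [Fintype α] [DecidableEq α] {π : P →* Perm α} {z : P}
  {W : Type*} [AddCommGroup W] [Module A W] (ρ : Representation A P W) (D : Dc π z) (hl2 : l ≠ 2)

/-- the weight occurs -/
def Occ (w : A) {k : ℕ} (p : Fin k × ZMod l ↪ α) (a : Fin k → ZMod l) : Prop :=
  ∃ v : W, v ≠ 0 ∧ ∀ i, ρ (yy D hl2 (blk p i)) v = wt w (a i) • v

variable {ρ}

theorem occ_move {w : A} (hw : IsRt l w) {k : ℕ} (hk : l * k + 2 ≤ Fintype.card α)
    {p : Fin k × ZMod l ↪ α} {a a' : Fin k → ZMod l} (σ : Perm (Fin k)) (s : Fin k → (ZMod l)ˣ)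
    (h : ∀ i, a i = a' (σ i) * s i) (ho : Occ ρ D hl2 w p a) : Occ ρ D hl2 w p a' := by
  obtain ⟨g, hg⟩ := move D hl2 hk p σ s
  obtain ⟨v, hv, hva⟩ := ho
  refine ⟨ρ g v, fun h0 => hv ?_, ?_⟩
  · have := congrArg (ρ g⁻¹) h0
    rwa [rho_inv_self, map_zero] at this
  · intro j
    obtain ⟨i, rfl⟩ := σ.surjective j
    have h1 : ρ (g * yy D hl2 (blk p i) * g⁻¹) (ρ g v) = wt w (a i) • ρ g v := by
      rw [rho_mul, rho_mul, rho_inv_self, hva, map_smul]
    rw [hg i] at h1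
    set y := yy D hl2 (blk p (σ i)) with hy
    have hyl : y ^ l = 1 := yy_pow D hl2 _
    -- the inverse power
    have h2 : (y ^ (s i : ZMod l).val) ^ ((s i)⁻¹ : (ZMod l)ˣ).val.val = y := by
      rw [← pow_mul]
      have h3 : ((s i : ZMod l).val * ((s i)⁻¹ : (ZMod l)ˣ).val.val) % l = 1 := by
        have h4 : ((s i : ZMod l) * ((s i)⁻¹ : (ZMod l)ˣ)).val = 1 := by
          have : Fact (1 < l) := ⟨hl.out.one_lt⟩
          rw [Units.mul_inv, ZMod.val_one]
        rwa [ZMod.val_mul] at h4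
      conv_lhs => rw [← Nat.div_add_mod ((s i : ZMod l).val * ((s i)⁻¹ : (ZMod l)ˣ).val.val) l, pow_add, pow_mul,
        hyl, one_pow, one_mul, h3, pow_one]
    have h5 : ρ (y ^ (s i : ZMod l).val) (ρ g v) = wt w (a i) • ρ g v := h1
    have h6 := pow_eg ρ (g := y ^ (s i : ZMod l).val) (c := wt w (a i)) (v := ρ g v) h5
      ((s i)⁻¹ : (ZMod l)ˣ).val.val
    rw [h2, wt_pow hw, h i, mul_assoc, Units.mul_inv, mul_one] at h6
    exact h6

theorem occ_of_card {w : A} (hw : IsRt l w) {k : ℕ}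
    (hk : l * k + 2 ≤ Fintype.card α) {p : Fin k × ZMod l ↪ α} {a a' : Fin k → ZMod l}
    (h : (Finset.univ.filter fun i => a i ≠ 0).card = (Finset.univ.filter fun i => a' i ≠ 0).card)
    (ho : Occ ρ D hl2 w p a) : Occ ρ D hl2 w p a' := by
  classical
  have hc : Fintype.card {i // a i ≠ 0} = Fintype.card {i // a' i ≠ 0} := by
    rw [Fintype.card_subtype, Fintype.card_subtype, h]
  let e := Fintype.equivOfCardEq hc
  let σ : Perm (Fin k) := e.extendSubtype
  have hσ : ∀ i, a i ≠ 0 ↔ a' (σ i) ≠ 0 := by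
    intro i
    constructor
    · intro hi
      exact e.extendSubtype_mem i hi
    · intro hi
      by_contra hi'
      exact e.extendSubtype_not_mem i (fun h => h hi') hi
  have key : ∀ x y : ZMod l, (x ≠ 0 ↔ y ≠ 0) → ∃ u : (ZMod l)ˣ, x = y * u := by
    intro x y hxy
    by_cases hx : x = 0
    · have hy : y = 0 := by
        by_contra hy
        exact hxy.2 hy hx
      exact ⟨1, by rw [hx, hy, zero_mul]⟩
    · have hy := hxy.1 hx
      refine ⟨Units.mk0 (y⁻¹ * x) (mul_ne_zero (inv_ne_zero hy) hx), ?_⟩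
      rw [Units.val_mk0, ← mul_assoc, mul_inv_cancel₀ hy, one_mul]
  choose s hs using fun i => key (a i) (a' (σ i)) (hσ i)
  exact occ_move D hl2 hw hk σ s hs ho

/-- many weights -/
theorem card_le_of_occ [FiniteDimensional A W] {w : A} (hw : IsRt l w)
    {k : ℕ} (hk : l * k + 2 ≤ Fintype.card α) {p : Fin k × ZMod l ↪ α} {a : Fin k → ZMod l}
    (ho : Occ ρ D hl2 w p a) :
    Nat.choose k (Finset.univ.filter fun i => a i ≠ 0).card * (l - 1) ^ (Finset.univ.filter fun i => a i ≠ 0).card ≤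
      Module.finrank A W := by
  classical
  set j := (Finset.univ.filter fun i => a i ≠ 0).card with hj
  refine (card_supp k j).trans ?_
  have hocc : ∀ b : {b : Fin k → ZMod l // (Finset.univ.filter fun i => b i ≠ 0).card = j},
      Occ ρ D hl2 w p b.1 := fun b => occ_of_card D hl2 hw hk (by rw [b.2]) ho
  choose v hv hva using hocc
  have := card_le_of_weights (fun i : Fin k => ρ (yy D hl2 (blk p i)))
    (fun i j => rho_comm ρ (yy_blk_comm D hl2 p i j)) (⊤ : Submodule A W)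
    (fun (b : {b : Fin k → ZMod l // (Finset.univ.filter fun i => b i ≠ 0).card = j}) i => wt w (b.1 i))
    (fun b b' hb => Subtype.ext (funext fun i => wt_inj hw (congrFun hb i))) v hv (fun _ => trivial)
    (fun b i => hva b i)
  rwa [finrank_top] at this

/-- common eigenvectors in invariant subspaces -/
theorem exists_occ [FiniteDimensional A W] [IsAlgClosed A] {w : A} (hw : IsRt l w)
    {k : ℕ} {p : Fin k × ZMod l ↪ α} {W0 : Submodule A W} (h0 : W0 ≠ ⊥)
    (hinv : ∀ i, Inv ρ W0 (yy D hl2 (blk p i))) :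
    ∃ a : Fin k → ZMod l, ∃ v ∈ W0, v ≠ 0 ∧ ∀ i, ρ (yy D hl2 (blk p i)) v = wt w (a i) • v := by
  classical
  have key : ∀ S : Finset (Fin k), ∃ W1 : Submodule A W, W1 ≤ W0 ∧ W1 ≠ ⊥ ∧
      (∀ i, Inv ρ W1 (yy D hl2 (blk p i))) ∧ ∀ i ∈ S, ∃ c, W1 ≤ eg ρ (yy D hl2 (blk p i)) c := by
    intro S
    induction S using Finset.induction_on with
    | empty => exact ⟨W0, le_rfl, h0, hinv, by simp⟩
    | insert i S hi ih =>
      obtain ⟨W1, h1, h2, h3, h4⟩ := ih
      obtain ⟨c, hc⟩ := exists_eig ρ (h3 i) h2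
      refine ⟨W1 ⊓ eg ρ (yy D hl2 (blk p i)) c, inf_le_left.trans h1, hc, fun j => (h3 j).inf ρ ?_, ?_⟩
      · exact inv_eg ρ (yy_blk_comm D hl2 p i j) c
      · intro j hj
        rcases Finset.mem_insert.1 hj with rfl | hj
        · exact ⟨c, inf_le_right⟩
        · obtain ⟨d, hd⟩ := h4 j hj
          exact ⟨d, inf_le_left.trans hd⟩
  obtain ⟨W1, h1, h2, -, h4⟩ := key Finset.univ
  obtain ⟨v, hv, hv0⟩ := (Submodule.ne_bot_iff _).1 h2
  have h5 : ∀ i, ∃ a : ZMod l, ρ (yy D hl2 (blk p i)) v = wt w a • v := by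
    intro i
    obtain ⟨c, hc⟩ := h4 i (Finset.mem_univ _)
    obtain ⟨a, rfl⟩ := exists_wt hw (eig_pow ρ (hc hv) hv0 (yy_pow D hl2 _))
    exact ⟨a, hc hv⟩
  choose a ha using h5
  exact ⟨a, v, h1 hv, hv0, ha⟩

theorem ne_zero_of_U {w : A} (hA : (l : A) ≠ 0) {e : ZMod l ↪ α} {a : ZMod l}
    {v : W} (hv : v ∈ U ρ (yy D hl2 e)) (hv0 : v ≠ 0) (hva : ρ (yy D hl2 e) v = wt w a • v) : a ≠ 0 := by
  rintro rfl
  rw [wt_zero, one_smul] at hva
  have h1 := U_inf_fix ρ (yy_pow D hl2 e) hA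
  have h2 : v ∈ (U ρ (yy D hl2 e) ⊓ eg ρ (yy D hl2 e) 1 : Submodule A W) := ⟨hv, (mem_eg_one ρ).2 hva⟩
  rw [h1, Submodule.mem_bot] at h2
  exact hv0 h2

variable (ρ)

/-- **Disjoint `l`-cycles act independently in small dimension.** -/
theorem disj_of_small [FiniteDimensional A W] [IsAlgClosed A] (hA : (l : A) ≠ 0) {k : ℕ}
    (hk : l * k + 2 ≤ Fintype.card α)
    (hn : ∀ j, 2 ≤ j → j ≤ k → Module.finrank A W < Nat.choose k j * (l - 1) ^ j)
    (p : Fin k × ZMod l ↪ α) {i j : Fin k} (hij : i ≠ j) :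
    yy D hl2 (blk p j) ∈ pst ρ (U ρ (yy D hl2 (blk p i))) := by
  classical
  obtain ⟨w, hw⟩ := exists_rt (A := A) hA
  by_contra hcon
  rw [mem_pst] at hcon
  push Not at hcon
  obtain ⟨u, hu, hne⟩ := hcon
  set W0 : Submodule A W := U ρ (yy D hl2 (blk p i)) ⊓ U ρ (yy D hl2 (blk p j)) with hW0
  have h1 : ρ (yy D hl2 (blk p j)) u - u ∈ W0 :=
    ⟨Submodule.sub_mem _ (inv_U ρ (yy_blk_comm D hl2 p i j) u hu) hu, sub_mem_U ρ _ u⟩
  have h2 : W0 ≠ ⊥ := by
    intro hb
    rw [hb, Submodule.mem_bot, sub_eq_zero] at h1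
    exact hne h1
  obtain ⟨a, v, hv, hv0, hva⟩ := exists_occ (ρ := ρ) D hl2 hw (p := p) h2
    (fun m => (inv_U ρ (yy_blk_comm D hl2 p i m)).inf ρ (inv_U ρ (yy_blk_comm D hl2 p j m)))
  have hai : a i ≠ 0 := ne_zero_of_U D hl2 (w := w) hA hv.1 hv0 (hva i)
  have haj : a j ≠ 0 := ne_zero_of_U D hl2 (w := w) hA hv.2 hv0 (hva j)
  have h4 := card_le_of_occ D hl2 hw hk ⟨v, hv0, hva⟩
  have h5 : 2 ≤ (Finset.univ.filter fun i => a i ≠ 0).card := by
    rw [← Finset.card_pair hij]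
    refine Finset.card_le_card fun m hm => ?_
    rcases Finset.mem_insert.1 hm with rfl | hm
    · simp [hai]
    · rw [Finset.mem_singleton.1 hm]; simp [haj]
  have h6 : (Finset.univ.filter fun i => a i ≠ 0).card ≤ k := by
    refine (Finset.card_filter_le _ _).trans ?_
    simp
  have := hn _ h5 h6
  omega

/-- a lower bound for the dimension -/
theorem le_finrank [FiniteDimensional A W] [IsAlgClosed A] (hA : (l : A) ≠ 0) {k : ℕ}
    (hk : l * k + 2 ≤ Fintype.card α) (p : Fin k × ZMod l ↪ α) {i : Fin k}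
    (hne : ρ (yy D hl2 (blk p i)) ≠ 1) : ∃ j, 1 ≤ j ∧ j ≤ k ∧ Nat.choose k j * (l - 1) ^ j ≤ Module.finrank A W := by
  classical
  obtain ⟨w, hw⟩ := exists_rt (A := A) hA
  have h2 : U ρ (yy D hl2 (blk p i)) ≠ ⊥ := by
    intro hb
    apply hne
    ext v
    have := sub_mem_U ρ (yy D hl2 (blk p i)) v
    rw [hb, Submodule.mem_bot, sub_eq_zero] at this
    exact this
  obtain ⟨a, v, hv, hv0, hva⟩ := exists_occ (ρ := ρ) D hl2 hw (p := p) h2
    (fun m => inv_U ρ (yy_blk_comm D hl2 p i m))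
  have hai : a i ≠ 0 := ne_zero_of_U D hl2 (w := w) hA hv hv0 (hva i)
  refine ⟨_, ?_, ?_, card_le_of_occ D hl2 hw hk ⟨v, hv0, hva⟩⟩
  · rw [Nat.one_le_iff_ne_zero, Ne, Finset.card_eq_zero]
    intro h
    have : i ∈ (Finset.univ.filter fun i => a i ≠ 0) := by simp [hai]
    rw [h] at this
    simp at this
  · refine (Finset.card_filter_le _ _).trans ?_
    simp

end wt

end Cfsg.Agent.H926.HP
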